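import Groth.Agent.Sga4h.SLoc
import Groth.Agent.Sga4h.ChartDVR
import Groth.Agent.Sga4h.UlaRing812
import Mathlib.RingTheory.DedekindDomain.Dvr
import Mathlib.RingTheory.DedekindDomain.PID
import Mathlib.FieldTheory.IsAlgClosed.Basic

/-!
# Strict localizations of the affine line over an algebraically closed field

* `exists_dvr`: a strict localization of `Spec K[X]` at the point `X = a₀`, as a strictly henselian
  discrete valuation ring with uniformizer `X - a₀` and residue field `K`;
* `bijective_integralClosure`: its integral closure in an algebraic extension of its fraction field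
  has residue field `K`.
-/

set_option autoImplicit false
universe u

open CategoryTheory CategoryTheory.Limits AlgebraicGeometry IsLocalRing
open scoped Polynomial

namespace Groth.Agent.Sga4h.H545.StrictDvr

open Groth.Agent.Etrest.StrictLoc

/-- The strict henselization of the local ring of `Spec R` at a non zero prime, `R` Dedekind. -/
theorem exists_dedekind (R : Type u) [CommRing R] [IsDedekindDomain R] (p : PrimeSpectrum R)
    (hp : p.asIdeal ≠ ⊥) :
    ∃ (A V : Type u) (_ : CommRing A) (_ : IsDomain A) (_ : IsDiscreteValuationRing A)
      (_ : Algebra R A) (_ : IsLocalization.AtPrime A p.asIdeal)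
      (_ : CommRing V) (_ : IsDomain V) (_ : IsDiscreteValuationRing V) (_ : HenselianLocalRing V)
      (_ : Algebra A V) (_ : IsLocalHom (algebraMap A V)) (_ : Algebra R V) (_ : IsScalarTower R A V),
      Hensel.IsStrictHenselization A V ∧ EtCoh.IsStrictlyHenselianLocalRing V ∧
      IsStrictLoc (spm (algebraMap R V)) := by
  let X : Scheme.{u} := Spec (CommRingCat.of R)
  let x : X := p
  let A : Type u := X.presheaf.stalk x
  let _ : Algebra R A := (StructureSheaf.toStalk (CommRingCat.of R) p).hom.toAlgebra
  have hA : IsLocalization.AtPrime A p.asIdeal :=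
    StructureSheaf.IsLocalization.to_stalk (CommRingCat.of R) p
  have hdom : IsDomain A := IsLocalization.isDomain_of_atPrime A p.asIdeal
  have hdvr : IsDiscreteValuationRing A :=
    IsLocalization.AtPrime.isDiscreteValuationRing_of_dedekind_domain R hp A
  obtain ⟨V, _, _, _, _, hV, -⟩ := Groth.Agent.Hensel.Exist.exists_isStrictHenselization A
  have h1 : IsDomain V := ChartDVR.isDomain_of_isStrictHenselization A V
  have h2 : IsDiscreteValuationRing V := ChartDVR.isDiscreteValuationRing_of_isStrictHenselization A V
  have h3 := ChartDVR.isStrictlyHenselianLocalRing_of_isStrictHenselization A V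
  have h4 : HenselianLocalRing V := Hensel.IsStrictHenselization.henselian A
  let _ : Algebra R V := ((algebraMap A V).comp (algebraMap R A)).toAlgebra
  have h5 : IsScalarTower R A V := IsScalarTower.of_algebraMap_eq fun r => rfl
  refine ⟨A, V, inferInstance, hdom, hdvr, inferInstance, hA, inferInstance, h1, h2, h4,
    inferInstance, inferInstance, inferInstance, h5, hV, h3, ?_⟩
  have h6 := isStrictLoc_specOf X x V
  have h7 : Hens2.specOf X x V = spm (algebraMap R V) := by
    have h8 : X.fromSpecStalk x = spm (algebraMap R A) := Spec.fromSpecStalk_eq' _ _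
    have h9 : spm (algebraMap A V) ≫ X.fromSpecStalk x =
        spm (algebraMap A V) ≫ spm (algebraMap R A) := congrArg (fun q => spm (algebraMap A V) ≫ q) h8
    exact h9.trans (spm_comp (algebraMap R A) (algebraMap A V)).symm
  rw [h7] at h6
  exact h6

/-- Evaluation at `a₀` computes the residues at the point `X = a₀`. -/
theorem residue_algebraMap {K : Type u} [Field K] (a₀ : K) {A : Type u} [CommRing A] [IsLocalRing A]
    [Algebra K[X] A] (hm : ∀ f : K[X], (Polynomial.X - Polynomial.C a₀) ∣ f →
      algebraMap K[X] A f ∈ maximalIdeal A) (f : K[X]) :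
    residue A (algebraMap K[X] A f) = residue A (algebraMap K[X] A (Polynomial.C (f.eval a₀))) := by
  rw [← sub_eq_zero, ← map_sub, ← map_sub, residue_eq_zero_iff]
  apply hm
  rw [Polynomial.dvd_iff_isRoot]
  simp [Polynomial.IsRoot]

/-- The residue field of the local ring at `X = a₀` is `K`. -/
theorem bijective_residue {K : Type u} [Field K] (a₀ : K) {A : Type u} [CommRing A] [IsLocalRing A]
    [Algebra K[X] A] (p : Ideal K[X]) [p.IsPrime]
    (hp : p = Ideal.span {Polynomial.X - Polynomial.C a₀})
    [IsLocalization.AtPrime A p] :
    Function.Bijective ((residue A).comp ((algebraMap K[X] A).comp Polynomial.C)) := by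
  have hm : ∀ f : K[X], (Polynomial.X - Polynomial.C a₀) ∣ f →
      algebraMap K[X] A f ∈ maximalIdeal A := fun f hf => by
    rw [IsLocalization.AtPrime.to_map_mem_maximal_iff A p, hp, Ideal.mem_span_singleton]
    exact hf
  refine ⟨RingHom.injective _, fun y => ?_⟩
  obtain ⟨y, rfl⟩ := residue_surjective y
  obtain ⟨f, s, rfl⟩ := IsLocalization.exists_mk'_eq p.primeCompl y
  have hs : IsUnit (algebraMap K[X] A s) := IsLocalization.map_units A s
  have hs1 : residue A (algebraMap K[X] A s) ≠ 0 := (residue_ne_zero_iff_isUnit _).2 hs
  have hs2 : (s : K[X]).eval a₀ ≠ 0 := by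
    intro h
    apply hs1
    rw [residue_algebraMap a₀ hm, h]
    simp
  refine ⟨f.eval a₀ / (s : K[X]).eval a₀, ?_⟩
  rw [map_div₀, div_eq_iff (by
    rw [Ne, map_eq_zero]
    exact hs2)]
  have h1 : residue A (IsLocalization.mk' A f s) * residue A (algebraMap K[X] A s) =
      residue A (algebraMap K[X] A f) := by
    rw [← map_mul, IsLocalization.mk'_spec]
  rw [residue_algebraMap a₀ hm s, residue_algebraMap a₀ hm f] at h1
  exact h1.symm

/-- For a strict henselization, a separably closed residue field does not change. -/
theorem bijective_residueField_map {K : Type u} [Field K] [IsSepClosed K] {A V : Type u} [CommRing A]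
    [IsLocalRing A] [CommRing V] [IsLocalRing V] [Algebra A V] [IsLocalHom (algebraMap A V)]
    [Hensel.IsStrictHenselization A V] (φ : K →+* A)
    (hφ : Function.Bijective ((residue A).comp φ)) :
    Function.Bijective ((residue V).comp ((algebraMap A V).comp φ)) := by
  refine ⟨RingHom.injective _, fun y => ?_⟩
  have hsc : IsSepClosed (ResidueField A) :=
    Groth.Agent.Etrest.SHPoint.isSepClosed_of_ringEquiv (RingEquiv.ofBijective _ hφ).symm
  have hcl : IsSepClosure (ResidueField A) (ResidueField V) :=
    Hensel.IsStrictHenselization.isSepClosure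
  have := hcl.separable
  obtain ⟨z, rfl⟩ := IsSepClosed.algebraMap_surjective (ResidueField A) (ResidueField V) y
  obtain ⟨c, rfl⟩ := hφ.2 z
  exact ⟨c, rfl⟩

/-- The strict localization of the affine line `Spec K[X]` at the point `X = a₀`. -/
theorem exists_dvr (K : Type u) [Field K] [IsSepClosed K] (a₀ : K) :
    ∃ (V : Type u) (_ : CommRing V) (_ : IsDomain V) (_ : IsDiscreteValuationRing V)
      (_ : HenselianLocalRing V) (_ : Algebra K V) (_ : Algebra K[X] V) (_ : IsScalarTower K K[X] V),
      EtCoh.IsStrictlyHenselianLocalRing V ∧ IsStrictLoc (spm (algebraMap K[X] V)) ∧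
      Function.Injective (algebraMap K[X] V) ∧
      Irreducible (algebraMap K[X] V (Polynomial.X - Polynomial.C a₀)) ∧
      Function.Bijective ((residue V).comp (algebraMap K V)) ∧
      (spm (algebraMap K[X] V) (closedPoint V)).asIdeal =
        Ideal.span {Polynomial.X - Polynomial.C a₀} := by
  have hirr : Irreducible (Polynomial.X - Polynomial.C a₀ : K[X]) := Polynomial.irreducible_X_sub_C a₀
  have hprime : (Ideal.span {(Polynomial.X - Polynomial.C a₀ : K[X])}).IsPrime :=
    (Ideal.span_singleton_prime hirr.ne_zero).2 hirr.prime
  let p : PrimeSpectrum K[X] := ⟨Ideal.span {Polynomial.X - Polynomial.C a₀}, hprime⟩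
  have hp0 : p.asIdeal ≠ ⊥ := by
    intro h
    exact hirr.ne_zero (Ideal.span_singleton_eq_bot.1 h)
  obtain ⟨A, V, _, _, _, _, hA, _, _, _, _, _, _, _, _, hV, hs, hloc⟩ := exists_dedekind K[X] p hp0
  have hinj1 : Function.Injective (algebraMap K[X] A) :=
    IsLocalization.injective A (Ideal.primeCompl_le_nonZeroDivisors p.asIdeal)
  have hinj2 : Function.Injective (algebraMap A V) := ChartDVR.injective_algebraMap A V
  have hmax : maximalIdeal A = Ideal.span {algebraMap K[X] A (Polynomial.X - Polynomial.C a₀)} := by
    rw [← IsLocalization.AtPrime.map_eq_maximalIdeal p.asIdeal A, Ideal.map_span,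
      Set.image_singleton]
  have hirrA : Irreducible (algebraMap K[X] A (Polynomial.X - Polynomial.C a₀)) :=
    (IsDiscreteValuationRing.irreducible_iff_uniformizer _).2 hmax
  let _ : Algebra K V := ((algebraMap K[X] V).comp Polynomial.C).toAlgebra
  have htow : IsScalarTower K K[X] V := IsScalarTower.of_algebraMap_eq fun r => rfl
  have hcomp : algebraMap K[X] V = (algebraMap A V).comp (algebraMap K[X] A) :=
    IsScalarTower.algebraMap_eq K[X] A V
  refine ⟨V, inferInstance, inferInstance, inferInstance, inferInstance, inferInstance,
    inferInstance, htow, hs, hloc, ?_, ?_, ?_, ?_⟩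
  · rw [hcomp]
    exact hinj2.comp hinj1
  · rw [hcomp, RingHom.comp_apply]
    exact ChartDVR.irreducible_of_isStrictHenselization A V hirrA
  · have h1 := bijective_residue a₀ p.asIdeal (A := A) rfl
    have h2 := bijective_residueField_map (V := V) _ h1
    have h3 : algebraMap K V = (algebraMap A V).comp ((algebraMap K[X] A).comp Polynomial.C) := by
      rw [← RingHom.comp_assoc, ← hcomp]
      rfl
    rw [h3]
    exact h2
  · change (maximalIdeal V).comap (algebraMap K[X] V) = _
    have hl : IsLocalHom (algebraMap A V) := inferInstance
    have hl2 : (maximalIdeal V).comap (algebraMap A V) = maximalIdeal A :=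
      ((local_hom_TFAE (algebraMap A V)).out 0 4).1 hl
    rw [hcomp, ← Ideal.comap_comap, hl2]
    exact IsLocalization.AtPrime.under_maximalIdeal A p.asIdeal

/-- Over an algebraically closed field `K`, the integral closure of a henselian discrete valuation
ring with residue field `K` in a field has residue field `K`. -/
theorem bijective_integralClosure {K : Type u} [Field K] [IsAlgClosed K] {V : Type u} [CommRing V]
    [HenselianLocalRing V] [Algebra K V] (hV : Function.Bijective ((residue V).comp (algebraMap K V)))
    (L : Type u) [Field L] [Algebra V L] [IsLocalRing (integralClosure V L)] :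
    Function.Bijective ((residue (integralClosure V L)).comp
      ((algebraMap V (integralClosure V L)).comp (algebraMap K V))) := by
  refine ⟨RingHom.injective _, fun y => ?_⟩
  let φ : K →+* ResidueField (integralClosure V L) := (residue (integralClosure V L)).comp
    ((algebraMap V (integralClosure V L)).comp (algebraMap K V))
  have hloc : IsLocalHom (algebraMap V (integralClosure V L)) := UlaRing812.isLocalHom V L
  let _ : Algebra K (ResidueField (integralClosure V L)) := φ.toAlgebra
  have hint : Algebra.IsIntegral K (ResidueField (integralClosure V L)) := by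
    refine ⟨fun z => ?_⟩
    obtain ⟨z, rfl⟩ := residue_surjective z
    have h1 : IsIntegral V z := Algebra.IsIntegral.isIntegral z
    obtain ⟨f, hf, hz⟩ := h1
    let e : K ≃+* ResidueField V := RingEquiv.ofBijective _ hV
    refine ⟨(f.map (residue V)).map (e.symm : ResidueField V →+* K), (hf.map _).map _, ?_⟩
    have h2 : φ.comp (e.symm : ResidueField V →+* K) =
        ResidueField.map (algebraMap V (integralClosure V L)) := by
      ext x
      obtain ⟨c, rfl⟩ := e.surjective x
      simp only [RingHom.comp_apply, RingHom.coe_coe, RingEquiv.symm_apply_apply]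
      rfl
    change Polynomial.eval₂ φ _ _ = 0
    rw [Polynomial.eval₂_map, h2, Polynomial.eval₂_map]
    have h3 : (ResidueField.map (algebraMap V (integralClosure V L))).comp (residue V) =
        (residue (integralClosure V L)).comp (algebraMap V (integralClosure V L)) := rfl
    rw [h3, ← Polynomial.hom_eval₂, hz, map_zero]
  exact IsAlgClosed.algebraMap_bijective_of_isIntegral.2 y

/-- The integral closure of `V` in a field `L`: henselian, strictly henselian, same residue field. -/
theorem integralClosure_facts {K : Type u} [Field K] [IsAlgClosed K] {V : Type u} [CommRing V]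
    [HenselianLocalRing V] [Algebra K V] (hV : Function.Bijective ((residue V).comp (algebraMap K V)))
    (L : Type u) [Field L] [Algebra V L] :
    ∃ _ : HenselianLocalRing (integralClosure V L),
      IsLocalHom (algebraMap V (integralClosure V L)) ∧
      EtCoh.IsStrictlyHenselianLocalRing (integralClosure V L) ∧
      Function.Bijective ((residue (integralClosure V L)).comp
        ((algebraMap V (integralClosure V L)).comp (algebraMap K V))) := by
  have h := UlaRing812.henselianLocalRing V L
  have h1 := bijective_integralClosure hV L
  refine ⟨h, UlaRing812.isLocalHom V L, ⟨h, ?_⟩, h1⟩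
  exact Groth.Agent.Etrest.SHPoint.isSepClosed_of_ringEquiv (RingEquiv.ofBijective _ h1).symm

end Groth.Agent.Sga4h.H545.StrictDvr
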