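import Groth.Agent.Sga4h.H919.P1Geo
import Groth.Agent.Sga4h.H545.StrictDvr
import Groth.Agent.Sga1.UlaSL
import Mathlib.Algebra.Polynomial.Laurent

/-!
# The projective line near the point outside of a chart

`V` a discrete valuation ring over `K[w]`, strict localization of `Spec K[w]` at `w = 0`:
* `isStrictLoc_inf`, `notMem_range_inf`: `Spec V ⟶ A^1 ⟶ P^1` (chart `i + 1`) is a strict localization
  at the point not in the chart `i`;
* `isPullback_inf`: the inverse image of the chart `i` is `Spec (Frac V)`, mapped to `A^1` by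
  `Spec (Frac V) ⟶ Spec K[T;T⁻¹]` (`T ↦ w`), `T ↦ T⁻¹`, and the inclusion.
-/

set_option autoImplicit false
universe u
open CategoryTheory CategoryTheory.Limits AlgebraicGeometry Opposite IsLocalRing
open scoped Polynomial LaurentPolynomial

namespace Groth.Agent.Sga4h.H545.InfGeo

open Groth.Agent.EtpbcA.P1Charts Groth.Agent.Etrest.StrictLoc Groth.Agent.CycB.P1Chart

/-- the inclusion `G_m ⟶ A^1` -/
noncomputable abbrev oL (K : Type u) [CommRing K] :
    Spec (CommRingCat.of K[T;T⁻¹]) ⟶ AA (CommRingCat.of K) :=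
  spm (Polynomial.toLaurent : K[X] →+* K[T;T⁻¹])

/-- the inversion of `G_m` -/
noncomputable abbrev invL (K : Type u) [CommRing K] :
    Spec (CommRingCat.of K[T;T⁻¹]) ⟶ Spec (CommRingCat.of K[T;T⁻¹]) :=
  spm ((LaurentPolynomial.invert : K[T;T⁻¹] ≃ₐ[K] K[T;T⁻¹]) : K[T;T⁻¹] →+* K[T;T⁻¹])

theorem invL_invL (K : Type u) [CommRing K] : invL K ≫ invL K = 𝟙 _ := by
  rw [← spm_comp, ← spm_id]
  congr 1
  ext x
  · simp
  · simp

instance isIso_invL (K : Type u) [CommRing K] : IsIso (invL K) :=
  ⟨invL K, invL_invL K, invL_invL K⟩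

instance isOpenImmersion_oL (K : Type u) [CommRing K] : IsOpenImmersion (oL K) := by
  have := LaurentPolynomial.isLocalization (R := K)
  exact IsOpenImmersion.of_isLocalization (Polynomial.X : K[X])

section pullback

variable {K : Type u} [CommRing K] {V : Type u} [CommRing V] [Algebra K[X] V]
  (F : Type u) [CommRing F] [Algebra V F]
  (θ : K[T;T⁻¹] →+* F)
  (hθ : θ.comp Polynomial.toLaurent = (algebraMap V F).comp (algebraMap K[X] V))

include hθ in
theorem theta_T_one : θ (LaurentPolynomial.T 1) = algebraMap V F (algebraMap K[X] V Polynomial.X) := by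
  have := RingHom.congr_fun hθ Polynomial.X
  simpa using this

include hθ in
theorem theta_C (c : K) : θ (LaurentPolynomial.C c) =
    algebraMap V F (algebraMap K[X] V (Polynomial.C c)) := by
  have := RingHom.congr_fun hθ (Polynomial.C c)
  simpa using this

theorem theta_T_neg : θ (LaurentPolynomial.T (-1)) * θ (LaurentPolynomial.T 1) = 1 := by
  rw [← map_mul, ← LaurentPolynomial.T_add]
  simp

include hθ in
theorem w_inf (i : Fin (1 + 1)) :
    spm (algebraMap V F) ≫ spm (algebraMap K[X] V) ≫ chart (i + 1) (CommRingCat.of K) =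
      (spm θ ≫ invL K ≫ oL K) ≫ chart i (CommRingCat.of K) := by
  unfold chart
  rw [← Category.assoc, ← spm_comp, ← spm_comp, ← spm_comp, map_pt, map_pt]
  have h1 : pr (CommRingCat.of K) = spm (Polynomial.C : K →+* K[X]) := rfl
  rw [h1, ← spm_comp, ← spm_comp]
  have h2 : (((θ.comp (((LaurentPolynomial.invert : K[T;T⁻¹] ≃ₐ[K] K[T;T⁻¹]) :
      K[T;T⁻¹] →+* K[T;T⁻¹]).comp Polynomial.toLaurent))).comp (Polynomial.C : K →+* K[X])) =
      ((algebraMap V F).comp (algebraMap K[X] V)).comp (Polynomial.C : K →+* K[X]) := by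
    ext c
    simp [theta_C F θ hθ]
  have h3 := theta_T_neg F θ
  rw [theta_T_one F θ hθ] at h3
  rw [h2]
  refine (pt_inv i _ ?_).symm
  refine Eq.trans ?_ h3
  congr 1
  simp

variable [IsLocalization.Away (algebraMap K[X] V Polynomial.X) F]

include hθ in
/-- The inverse image of the chart `i` in the neighbourhood `Spec V` of infinity. -/
theorem isPullback_inf (i : Fin (1 + 1)) :
    IsPullback (spm (algebraMap V F)) (spm θ ≫ invL K ≫ oL K)
      (spm (algebraMap K[X] V) ≫ chart (i + 1) (CommRingCat.of K)) (chart i (CommRingCat.of K)) := by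
  have h0 : IsOpenImmersion (spm (algebraMap V F)) :=
    IsOpenImmersion.of_isLocalization (algebraMap K[X] V Polynomial.X)
  refine (IsOpenImmersion.isPullback _ _ _ _ (w_inf F θ hθ i) ?_).flip
  ext x
  have h1 : (spm (algebraMap K[X] V) ≫ chart (i + 1) (CommRingCat.of K)) x ∈
      Set.range (chart i (CommRingCat.of K)) ↔ algebraMap K[X] V Polynomial.X ∉ x.asIdeal :=
    chart_mem_range_iff i (CommRingCat.of K) (spm (algebraMap K[X] V) x)
  have h2 : x ∈ Set.range (spm (algebraMap V F)) ↔ algebraMap K[X] V Polynomial.X ∉ x.asIdeal := by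
    have := PrimeSpectrum.localization_away_comap_range F (algebraMap K[X] V Polynomial.X)
    exact Iff.of_eq (congrArg (fun S : Set (PrimeSpectrum V) => x ∈ S) this)
  exact h1.trans h2.symm

end pullback

section theta

variable {K : Type u} [CommRing K] {V : Type u} [CommRing V] [Algebra K[X] V]
  (F : Type u) [CommRing F] [Algebra V F] [IsLocalization.Away (algebraMap K[X] V Polynomial.X) F]

/-- The homomorphism `K[T;T⁻¹] → F`, `T ↦ w`. -/
theorem exists_theta : ∃ θ : K[T;T⁻¹] →+* F,
    θ.comp Polynomial.toLaurent = (algebraMap V F).comp (algebraMap K[X] V) := by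
  have h1 := LaurentPolynomial.isLocalization (R := K)
  have h2 : IsUnit (((algebraMap V F).comp (algebraMap K[X] V)) Polynomial.X) :=
    IsLocalization.Away.algebraMap_isUnit (S := F) (algebraMap K[X] V Polynomial.X)
  refine ⟨IsLocalization.Away.lift (S := K[T;T⁻¹]) (Polynomial.X : K[X]) h2, ?_⟩
  exact IsLocalization.Away.lift_comp (S := K[T;T⁻¹]) (Polynomial.X : K[X]) h2

omit [IsLocalization.Away (algebraMap K[X] V Polynomial.X) F] in
/-- The homomorphism `K[T;T⁻¹] → F`, `T ↦ w` is unique. -/
theorem theta_unique {θ θ' : K[T;T⁻¹] →+* F}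
    (h : θ.comp Polynomial.toLaurent = (algebraMap V F).comp (algebraMap K[X] V))
    (h' : θ'.comp Polynomial.toLaurent = (algebraMap V F).comp (algebraMap K[X] V)) : θ = θ' := by
  have h1 := LaurentPolynomial.isLocalization (R := K)
  refine IsLocalization.ringHom_ext (Submonoid.powers (Polynomial.X : K[X])) ?_
  exact h.trans h'.symm

end theta

section dvr

variable {K : Type u} [CommRing K] {V : Type u} [CommRing V] [IsLocalRing V] [Algebra K[X] V]

/-- The strict localization at the point at infinity. -/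
theorem isStrictLoc_inf (h : IsStrictLoc (spm (algebraMap K[X] V))) (i : Fin (1 + 1)) :
    IsStrictLoc (spm (algebraMap K[X] V) ≫ chart i (CommRingCat.of K)) :=
  h.comp (chart i (CommRingCat.of K))

theorem notMem_range_inf (h : algebraMap K[X] V Polynomial.X ∈ maximalIdeal V) (i : Fin (1 + 1)) :
    (spm (algebraMap K[X] V) ≫ chart (i + 1) (CommRingCat.of K)) (closedPoint V) ∉
      Set.range (chart i (CommRingCat.of K)) := by
  intro h2
  exact (chart_mem_range_iff i (CommRingCat.of K) (spm (algebraMap K[X] V) (closedPoint V))).1 h2 h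

end dvr

end Groth.Agent.Sga4h.H545.InfGeo
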