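import Groth.Agent.Sga4h.H545.InfGeo
import Groth.Agent.Sga4h.H919.NearMain
import Groth.Agent.Sga4h.H299.ExtBC

/-!
# Unipotence at infinity of an extension by zero

`N` on `G_m = Spec K[T;T⁻¹]`, `G = o_! (inv^* N)` on `A^1_K`: if the inverse image of `N` on
`Spec (Frac V)` (`T ↦ w`) is unipotent, so is the inverse image of `G` on the punctured neighbourhood
`Spec V ×_{P^1} A^1` of infinity.
-/

set_option autoImplicit false
universe u
open CategoryTheory CategoryTheory.Limits AlgebraicGeometry Opposite IsLocalRing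
open scoped Polynomial LaurentPolynomial

namespace Groth.Agent.Sga4h.H545.InfUnip

open Groth.Agent.EtpbcA.P1Charts Groth.Agent.Etrest.StrictLoc Groth.Agent.CycB.P1Chart InfGeo
  Groth.Agent.Etcore.LPullComp Groth.Agent.Sga4h.ModRestr Groth.Agent.Sga4h.H299.ExtBC
  Groth.Agent.Sga4h.H919.ConcH Groth.Agent.Sga4h.H919.NearMain

variable (Λ : Type (u + 1)) [CommRing Λ]

/-- `j^{-1} j_! ≅ 𝟭` for an open immersion `j`. -/
noncomputable def extPullIso {U X : Scheme.{u}} (j : U ⟶ X) [IsOpenImmersion j] :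
    ext Λ j ⋙ EtModW.pull Λ j ≅ 𝟭 _ :=
  Functor.isoWhiskerLeft (ext Λ j) (resPull Λ j) ≪≫ (asIso (extResAdj Λ j).unit).symm

/-- `c^{-1} j_! ≅ d^{-1}` for `c = d ≫ j`. -/
noncomputable def extPullFac {W U X : Scheme.{u}} (j : U ⟶ X) [IsOpenImmersion j] (c : W ⟶ X)
    (d : W ⟶ U) (h : d ≫ j = c) : ext Λ j ⋙ EtModW.pull Λ c ≅ EtModW.pull Λ d :=
  Functor.isoWhiskerLeft (ext Λ j) ((pullCongr Λ h).symm ≪≫ (pullComp Λ d j).symm) ≪≫
    (Functor.associator _ _ _).symm ≪≫ Functor.isoWhiskerRight (extPullIso Λ j) (EtModW.pull Λ d) ≪≫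
    Functor.leftUnitor _

section

variable {K : Type u} [CommRing K] {F : Type u} [CommRing F] (θ : K[T;T⁻¹] →+* F)

variable {Λ} in
/-- The inverse image of `o_! (inv^* N)` on a scheme over `Spec F`. -/
theorem unip_of_fac {S : Scheme.{u}} (h : S ⟶ Spec (CommRingCat.of F)) (t : S ⟶ AA (CommRingCat.of K))
    (ht : h ≫ spm θ ≫ invL K ≫ oL K = t) (N : EtModW.Mod Λ (Spec (CommRingCat.of K[T;T⁻¹]))) {r : ℕ}
    (hN : Unip Λ r ((EtModW.pull Λ (spm θ)).obj N)) :
    Unip Λ r ((EtModW.pull Λ t).obj ((ext Λ (oL K)).obj ((EtModW.pull Λ (invL K)).obj N))) := by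
  have h1 : (h ≫ spm θ ≫ invL K) ≫ oL K = t := by
    rw [← ht, Category.assoc, Category.assoc]
  have h2 : (h ≫ spm θ ≫ invL K) ≫ invL K = h ≫ spm θ := by
    rw [Category.assoc, Category.assoc, invL_invL, Category.comp_id]
  refine Unip.of_iso (unip_pull h hN) ?_
  exact (pullComp Λ h (spm θ)).app N ≪≫ (pullCongr Λ h2).symm.app N ≪≫
    (pullComp Λ (h ≫ spm θ ≫ invL K) (invL K)).symm.app N ≪≫
    (extPullFac Λ (oL K) t (h ≫ spm θ ≫ invL K) h1).symm.app _

variable {V : Type u} [CommRing V] [Algebra K[X] V] [Algebra V F]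
  [IsLocalization.Away (algebraMap K[X] V Polynomial.X) F]
  (hθ : θ.comp Polynomial.toLaurent = (algebraMap V F).comp (algebraMap K[X] V))

variable {Λ} in
include hθ in
/-- **Unipotence at infinity.** -/
theorem unip_inf (i : Fin (1 + 1)) (N : EtModW.Mod Λ (Spec (CommRingCat.of K[T;T⁻¹]))) {r : ℕ}
    (hN : Unip Λ r ((EtModW.pull Λ (spm θ)).obj N)) :
    Unip Λ r ((EtModW.pull Λ (pullback.snd (spm (algebraMap K[X] V) ≫ chart (i + 1) (CommRingCat.of K))
      (chart i (CommRingCat.of K)))).obj ((ext Λ (oL K)).obj ((EtModW.pull Λ (invL K)).obj N))) :=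
  unip_of_fac θ (isPullback_inf F θ hθ i).isoPullback.inv _
    (isPullback_inf F θ hθ i).isoPullback_inv_snd N hN

end

/-- **The point at infinity of the projective line over a separably closed field.** -/
theorem exists_inf (K : Type u) [Field K] [IsSepClosed K] (i : Fin (1 + 1)) :
    ∃ (V : Type u) (_ : CommRing V) (_ : IsDomain V) (_ : IsDiscreteValuationRing V)
      (_ : HenselianLocalRing V) (_ : Algebra K V) (_ : Algebra K[X] V) (_ : IsScalarTower K K[X] V)
      (θ : K[T;T⁻¹] →+* FractionRing V) (σ : Spec (CommRingCat.of V) ⟶ PP (CommRingCat.of K)),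
      EtCoh.IsStrictlyHenselianLocalRing V ∧ Function.Bijective ((residue V).comp (algebraMap K V)) ∧
      Irreducible (algebraMap K[X] V Polynomial.X) ∧
      θ.comp Polynomial.toLaurent = (algebraMap V (FractionRing V)).comp (algebraMap K[X] V) ∧
      σ = spm (algebraMap K[X] V) ≫ chart (i + 1) (CommRingCat.of K) ∧
      IsStrictLoc σ ∧ σ (closedPoint V) ∉ Set.range (chart i (CommRingCat.of K)) ∧
      IsPullback (spm (algebraMap V (FractionRing V))) (spm θ ≫ invL K ≫ oL K) σ
        (chart i (CommRingCat.of K)) ∧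
      ∀ {Λ : Type (u + 1)} [CommRing Λ] (N : EtModW.Mod Λ (Spec (CommRingCat.of K[T;T⁻¹]))) {r : ℕ},
        Unip Λ r ((EtModW.pull Λ (spm θ)).obj N) →
        Unip Λ r ((EtModW.pull Λ (pullback.snd σ (chart i (CommRingCat.of K)))).obj
          ((ext Λ (oL K)).obj ((EtModW.pull Λ (invL K)).obj N))) := by
  obtain ⟨V, _, _, _, _, _, _, _, h1, h2, -, h4, h5, -⟩ := StrictDvr.exists_dvr K 0
  rw [Polynomial.C_0, sub_zero] at h4
  have : IsLocalization.Away (algebraMap K[X] V Polynomial.X) (FractionRing V) :=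
    Groth.Agent.Sga4h.UlaRing812.isLocalization_away_fraction V (FractionRing V) h4
  obtain ⟨θ, hθ⟩ := exists_theta (K := K) (V := V) (FractionRing V)
  refine ⟨V, inferInstance, inferInstance, inferInstance, inferInstance, inferInstance, inferInstance,
    inferInstance, θ, spm (algebraMap K[X] V) ≫ chart (i + 1) (CommRingCat.of K), h1, h5, h4, hθ, rfl,
    isStrictLoc_inf h2 _, ?_, isPullback_inf (FractionRing V) θ hθ i, ?_⟩
  · exact notMem_range_inf (by
      rw [mem_maximalIdeal]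
      exact h4.not_isUnit) i
  · intro Λ _ N r hN
    exact unip_inf θ hθ i N hN

end Groth.Agent.Sga4h.H545.InfUnip
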